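import Groth.Agent.MiscTwoH99.FinOrbit.Orbit
import Mathlib.RingTheory.LocalRing.ResidueField.Ideal
import Mathlib.FieldTheory.IsAlgClosed.AlgebraicClosure
import Mathlib.RingTheory.Flat.Basic
import Mathlib.LinearAlgebra.Matrix.Charpoly.LinearMap

/-! Inertia at a point of a scheme with an action of a finite group scheme. -/

universe u

open TensorProduct
open scoped CategoryTheory.MonObj

namespace Groth.Agent.MiscTwoH99.FinOrbit

open CategoryTheory in
theorem act_act {R A B L : Type u} [CommRing R] [CommRing A] [HopfAlgebra R A] [CommRing B] [Algebra R B]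
    [CommRing L] [Algebra R L] [HopfRep.Comod R A B] [GLin.IsCoactAlg R A B]
    (x : B →ₐ[R] L) (g h : A →ₐ[R] L) : act (act x g) h = act x (conv g h) := by
  apply CoactBr.pt_injective
  rw [act, ← CoactBr.lift_pt_ract, act, ← CoactBr.lift_pt_ract, CoactBr.lift_ract_ract, CoactBr.pt_mul_pt,
    CoactBr.lift_pt_ract]
  rfl

section Group

variable {R A L L' : Type u} [CommRing R] [CommRing A] [HopfAlgebra R A] [CommRing L] [Algebra R L]
  [CommRing L'] [Algebra R L']

theorem comp_eps (f : L →ₐ[R] L') : f.comp (eps R A L) = eps R A L' :=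
  AlgHom.ext fun a => f.commutes _

/-- The conjugate of a point is trivial only if the point is. -/
theorem eq_eps_of_conj {g k : A →ₐ[R] L}
    (h : conv (conv g k) (g.comp (HopfAlgebra.antipodeAlgHom R A)) = eps R A L) : k = eps R A L := by
  apply CoactBr.pt_injective
  have h1 := congrArg CoactBr.pt h
  rw [conv, ← CoactBr.pt_mul_pt, conv, ← CoactBr.pt_mul_pt, ← CoactBr.pt_inv, ← CoactBr.one_eq_pt] at h1
  rw [← CoactBr.one_eq_pt]
  exact mul_left_cancel (a := CoactBr.pt g) ((mul_inv_eq_one.mp h1).trans (_root_.mul_one _).symm)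

end Group

variable {R A B : Type u} [CommRing R] [CommRing A] [HopfAlgebra R A]
  [CommRing B] [Algebra R B] [HopfRep.Comod R A B] [GLin.IsCoactAlg R A B]

variable (A) in
/-- The inertia at a point is trivial. -/
def Triv {K : Type u} [CommRing K] [Algebra R K] (x : B →ₐ[R] K) : Prop :=
  ∀ (L : Type u) [CommRing L] [Algebra R L] (h : K →ₐ[R] L) (g : A →ₐ[R] L),
    act (h.comp x) g = h.comp x → g = eps R A L

/-- Fields receiving a common ring with the same kernel embed in a common algebraically closed field. -/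
theorem exists_compositum {C K₁ K₂ : Type u} [CommRing C] [Algebra R C] [Field K₁] [Algebra R K₁] [Field K₂]
    [Algebra R K₂] (f₁ : C →ₐ[R] K₁) (f₂ : C →ₐ[R] K₂) (h : RingHom.ker f₁ = RingHom.ker f₂) :
    ∃ (L : Type u) (_ : Field L) (_ : IsAlgClosed L) (_ : Algebra R L) (j₁ : K₁ →ₐ[R] L) (j₂ : K₂ →ₐ[R] L),
      j₁.comp f₁ = j₂.comp f₂ := by
  let p := RingHom.ker f₁
  haveI : p.IsPrime := RingHom.ker_isPrime _
  let l₁ : p.ResidueField →ₐ[R] K₁ := Ideal.ResidueField.liftₐ p f₁ le_rfl fun c hc =>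
    isUnit_iff_ne_zero.mpr hc
  let l₂ : p.ResidueField →ₐ[R] K₂ := Ideal.ResidueField.liftₐ p f₂ h.le fun c hc =>
    isUnit_iff_ne_zero.mpr fun h0 => hc (h.ge h0)
  letI : Algebra p.ResidueField K₁ := l₁.toRingHom.toAlgebra
  letI : Algebra p.ResidueField K₂ := l₂.toRingHom.toAlgebra
  haveI : IsScalarTower R p.ResidueField K₁ := IsScalarTower.of_algebraMap_eq fun r => (l₁.commutes r).symm
  haveI : IsScalarTower R p.ResidueField K₂ := IsScalarTower.of_algebraMap_eq fun r => (l₂.commutes r).symm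
  let T := K₁ ⊗[p.ResidueField] K₂
  haveI : Nontrivial T := (Algebra.TensorProduct.includeLeft_injective (R := p.ResidueField) (S := p.ResidueField)
    (A := K₁) (B := K₂) (algebraMap p.ResidueField K₂).injective).nontrivial
  obtain ⟨M, hM⟩ := Ideal.exists_maximal T
  letI := Ideal.Quotient.field M
  let emb : (T ⧸ M) →+* AlgebraicClosure (T ⧸ M) := algebraMap _ _
  let j₁ : K₁ →+* AlgebraicClosure (T ⧸ M) := emb.comp ((Ideal.Quotient.mk M).comp Algebra.TensorProduct.includeLeftRingHom)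
  let j₂ : K₂ →+* AlgebraicClosure (T ⧸ M) :=
    emb.comp ((Ideal.Quotient.mk M).comp (Algebra.TensorProduct.includeRight : K₂ →ₐ[p.ResidueField] T).toRingHom)
  have hj : ∀ c : p.ResidueField, j₁ (algebraMap _ K₁ c) = j₂ (algebraMap _ K₂ c) := fun c => by
    show emb (Ideal.Quotient.mk M ((algebraMap _ K₁ c) ⊗ₜ[p.ResidueField] (1 : K₂))) =
      emb (Ideal.Quotient.mk M ((1 : K₁) ⊗ₜ[p.ResidueField] (algebraMap _ K₂ c)))
    rw [Algebra.TensorProduct.tmul_one_eq_one_tmul]
  letI : Algebra R (AlgebraicClosure (T ⧸ M)) := (j₁.comp (algebraMap R K₁)).toAlgebra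
  refine ⟨AlgebraicClosure (T ⧸ M), inferInstance, inferInstance, inferInstance, ⟨j₁, fun r => rfl⟩,
    ⟨j₂, fun r => ?_⟩, AlgHom.ext fun c => ?_⟩
  · show j₂ (algebraMap R K₂ r) = j₁ (algebraMap R K₁ r)
    rw [IsScalarTower.algebraMap_apply R p.ResidueField K₂, IsScalarTower.algebraMap_apply R p.ResidueField K₁]
    exact (hj _).symm
  · have h1 : algebraMap p.ResidueField K₁ (algebraMap C _ c) = f₁ c := Ideal.ResidueField.liftₐ_algebraMap _ _ _ _ c
    have h2 : algebraMap p.ResidueField K₂ (algebraMap C _ c) = f₂ c := Ideal.ResidueField.liftₐ_algebraMap _ _ _ _ c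
    show j₁ (f₁ c) = j₂ (f₂ c)
    rw [← h1, ← h2]
    exact hj _

/-- A ring over a subfield embeds in a ring over a bigger field. -/
theorem exists_extension {K Ω L : Type u} [Field K] [Algebra R K] [Field Ω] [Algebra R Ω] [CommRing L] [Algebra R L]
    (j : K →ₐ[R] Ω) (h : K →ₐ[R] L) :
    ∃ (L'' : Type u) (_ : CommRing L'') (_ : Algebra R L'') (i : L →ₐ[R] L'') (k : Ω →ₐ[R] L''),
      Function.Injective i ∧ i.comp h = k.comp j := by
  letI : Algebra K Ω := j.toRingHom.toAlgebra
  letI : Algebra K L := h.toRingHom.toAlgebra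
  haveI : IsScalarTower R K Ω := IsScalarTower.of_algebraMap_eq fun r => (j.commutes r).symm
  haveI : IsScalarTower R K L := IsScalarTower.of_algebraMap_eq fun r => (h.commutes r).symm
  refine ⟨L ⊗[K] Ω, inferInstance, inferInstance,
    (Algebra.TensorProduct.includeLeft : L →ₐ[K] L ⊗[K] Ω).restrictScalars R,
    (Algebra.TensorProduct.includeRight : Ω →ₐ[K] L ⊗[K] Ω).restrictScalars R, ?_, AlgHom.ext fun c => ?_⟩
  · exact Algebra.TensorProduct.includeLeft_injective (S := K) (algebraMap K Ω).injective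
  · show (algebraMap K L c) ⊗ₜ[K] (1 : Ω) = (1 : L) ⊗ₜ[K] algebraMap K Ω c
    rw [Algebra.algebraMap_eq_smul_one, Algebra.algebraMap_eq_smul_one, TensorProduct.smul_tmul]

variable [Module.Finite R A] [Module.Projective R A]

/-- Triviality of the inertia depends only on the image in the quotient. -/
theorem Triv.of_ker_eq {K₁ K₂ : Type u} [Field K₁] [Algebra R K₁] [Field K₂] [Algebra R K₂] {x₁ : B →ₐ[R] K₁}
    {x₂ : B →ₐ[R] K₂}
    (h : RingHom.ker (x₁.comp (GLin.invariants R A B).val) = RingHom.ker (x₂.comp (GLin.invariants R A B).val))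
    (h₁ : Triv A x₁) : Triv A x₂ := by
  intro L _ _ l g hg
  obtain ⟨Ω, _, _, _, j₁, j₂, hj⟩ := exists_compositum _ _ h
  obtain ⟨g₀, hg₀⟩ := exists_act_eq (A := A) (x₁ := j₁.comp x₁) (x₂ := j₂.comp x₂)
    (by rw [AlgHom.comp_assoc, AlgHom.comp_assoc, hj])
  obtain ⟨L'', _, _, i, k, hi, hik⟩ := exists_extension j₂ l
  have hX : i.comp (l.comp x₂) = act ((k.comp j₁).comp x₁) (k.comp g₀) := by
    rw [← AlgHom.comp_assoc, hik, AlgHom.comp_assoc, ← hg₀, comp_act, AlgHom.comp_assoc]
  have hG : act (i.comp (l.comp x₂)) (i.comp g) = i.comp (l.comp x₂) := by rw [← comp_act, hg]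
  rw [hX, act_act] at hG
  have h2 := congrArg (fun X => act (A := A) X ((k.comp g₀).comp (HopfAlgebra.antipodeAlgHom R A))) hG
  simp only [act_act, (conv_antipode _).1, act_eps] at h2
  have h3 := eq_eps_of_conj (h₁ L'' (k.comp j₁) _ h2)
  refine AlgHom.ext fun a => hi ?_
  show i.comp g a = i.comp (eps R A L) a
  rw [h3, comp_eps]

theorem aeval_tower_eq {L : Type u} [CommRing L] [Algebra R L] (f : GLin.invariants R A B →ₐ[R] L)
    {n : ℕ} (v : Fin n → GLin.invariants R A B) (d : MvPolynomial (Fin n) (GLin.invariants R A B)) :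
    f (MvPolynomial.aeval v d) = MvPolynomial.aevalTower f (fun i => f (v i)) d := by
  induction d using MvPolynomial.induction_on with
  | C c => simp
  | add p q hp hq => simp only [map_add, hp, hq]
  | mul_X p i hp => rw [map_mul, map_mul, map_mul, hp, MvPolynomial.aeval_X, MvPolynomial.aevalTower_X]

/-- An ideal whose trace on the invariants lies in a prime is contained in a prime over it. -/
theorem exists_prime_of_disjoint {𝔞 : Ideal B} {p : Ideal (GLin.invariants R A B)} [p.IsPrime]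
    (h : 𝔞.comap (GLin.invariants R A B).val ≤ p) :
    ∃ P : Ideal B, P.IsPrime ∧ 𝔞 ≤ P ∧ P.comap (GLin.invariants R A B).val = p := by
  let C := GLin.invariants R A B
  let S : Submonoid B := p.primeCompl.map C.val.toRingHom.toMonoidHom
  have hd : Disjoint (𝔞 : Set B) S := Set.disjoint_left.mpr fun b hb hb' => by
    obtain ⟨c, hc, rfl⟩ := hb'
    exact hc (h hb)
  obtain ⟨P, h𝔞, hmax⟩ := zorn_le_nonempty₀ {I : Ideal B | Disjoint (I : Set B) S}
    (fun c hc hc' x hx => ⟨sSup c, Set.disjoint_left.mpr fun y hy => by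
      haveI : Nonempty c := ⟨⟨x, hx⟩⟩
      obtain ⟨I, hI⟩ := (Submodule.mem_iSup_of_directed _ hc'.directed).mp (sSup_eq_iSup' c ▸ hy)
      exact Set.disjoint_left.mp (hc I.2) hI, fun _ => le_sSup⟩) 𝔞 hd
  have hP : P.IsPrime := Ideal.isPrime_of_maximally_disjoint _ _ hmax.1 fun _ => hmax.not_prop_of_gt
  haveI := hP
  have hPp : P.comap C.val ≤ p := fun c hc => by
    by_contra hcp
    exact Set.disjoint_left.mp hmax.1 hc ⟨c, hcp, rfl⟩
  refine ⟨P, hP, h𝔞, le_antisymm hPp fun r hr => ?_⟩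
  by_contra hrP
  have hlt : P < P ⊔ Ideal.span {(r : B)} := lt_of_le_of_ne le_sup_left fun he =>
    hrP (show (r : B) ∈ P from he ▸ Ideal.mem_sup_right (Ideal.mem_span_singleton_self _))
  obtain ⟨w, hw, hw'⟩ := Set.not_disjoint_iff.mp (hmax.not_prop_of_gt hlt)
  obtain ⟨s, hs, rfl⟩ := hw'
  obtain ⟨y, hy, z, hz, hyz⟩ := Submodule.mem_sup.mp hw
  obtain ⟨b, rfl⟩ := Ideal.mem_span_singleton'.mp hz
  replace hyz : y + b * (r : B) = (s : B) := hyz
  obtain ⟨d, hd⟩ := exists_invariant (R := R) (A := A) ![(1 : B), -b]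
  let x : B →ₐ[R] P.ResidueField := IsScalarTower.toAlgHom R B P.ResidueField
  let e : C := MvPolynomial.aeval ![s, r] d
  have he : e ∈ p := hPp (by
    show (e : B) ∈ P
    rw [← Ideal.algebraMap_residueField_eq_zero (I := P)]
    show x.comp C.val e = 0
    rw [aeval_tower_eq, hd, nrm_eq_zero_iff]
    have h1 := isUnit_Orb (A := A) (x := x) (x (s : B) ⊗ₜ[R] (1 : B) + x (r : B) ⊗ₜ[R] (-b)) (by
      rw [map_add, Algebra.TensorProduct.lift_tmul, Algebra.TensorProduct.lift_tmul]
      show ¬ IsUnit (x (s : B) * x 1 + x (r : B) * x (-b))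
      rw [← map_mul, ← map_mul, ← map_add, ← hyz, show (y + b * (r : B)) * 1 + (r : B) * -b = y by ring,
        show x y = 0 from Ideal.algebraMap_residueField_eq_zero.mpr hy]
      exact not_isUnit_zero)
    convert h1 using 2
    simp [Orb, Fin.sum_univ_two, Algebra.smul_def])
  let π : C →ₐ[R] p.ResidueField := IsScalarTower.toAlgHom R C p.ResidueField
  have h2 : π (MvPolynomial.aeval ![s, 0] d) = 0 := by
    rw [← show π e = 0 from Ideal.algebraMap_residueField_eq_zero.mpr he, aeval_tower_eq, aeval_tower_eq]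
    congr 2
    funext i
    fin_cases i
    · rfl
    · simp only [Fin.mk_one, Matrix.cons_val_one, Matrix.cons_val_zero, map_zero]
      exact (Ideal.algebraMap_residueField_eq_zero.mpr hr).symm
  have h3 : MvPolynomial.aeval ![s, 0] d = nrm R A (s ⊗ₜ[R] (1 : A)) := by
    apply Subtype.val_injective
    show C.val _ = C.val _
    have h4 := hd B (AlgHom.id R B) (fun i => C.val (![s, 0] i))
    rw [AlgHom.id_comp] at h4
    rw [aeval_tower_eq, h4, ← nrm_map]
    congr 1
    simp [Fin.sum_univ_two, Algebra.smul_def]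
  rw [h3, ← nrm_map, nrm_eq_zero_iff, Algebra.TensorProduct.map_tmul, map_one] at h2
  refine h2 ?_
  have h5 : IsUnit (π s) := isUnit_iff_ne_zero.mpr fun h0 => hs (Ideal.algebraMap_residueField_eq_zero.mp h0)
  exact h5.map (Algebra.TensorProduct.includeLeftRingHom : p.ResidueField →+* p.ResidueField ⊗[R] A)

end Groth.Agent.MiscTwoH99.FinOrbit
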