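import Groth.Prelude.Def_GLin
import Mathlib.RingTheory.HopfAlgebra.TensorProduct
import Mathlib.RingTheory.TensorProduct.Free
import Mathlib.LinearAlgebra.Determinant
import Mathlib.RingTheory.Artinian.Module

/-! The norm of a tensor product with a finite projective algebra, and orbit maps of a coaction. -/

universe u

open TensorProduct

namespace Groth.Agent.MiscTwoH99.FinOrbit

variable {R A : Type u} [CommRing R] [CommRing A] [Algebra R A] [Module.Finite R A] [Module.Projective R A]

variable (R A) in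
theorem exists_coords : ∃ (n : ℕ) (q : Fin n → A) (co : Fin n → (A →ₗ[R] R)), ∀ a, ∑ i, co i a • q i = a := by
  classical
  obtain ⟨n, π, hπ⟩ := Module.Finite.exists_fin' R A
  obtain ⟨s, hs⟩ := Module.projective_lifting_property π LinearMap.id hπ
  refine ⟨n, fun i => π (Pi.single i 1), fun i => LinearMap.proj i ∘ₗ s, fun a => ?_⟩
  conv_rhs => rw [← LinearMap.id_apply (R := R) a, ← hs, LinearMap.comp_apply, pi_eq_sum_univ' (s a), map_sum]
  exact Finset.sum_congr rfl fun i _ => by
    rw [map_smul]
    rfl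

variable (R A) in
/-- The number of coordinates. -/
noncomputable def nn : ℕ := (exists_coords R A).choose

variable (R A) in
/-- The generators. -/
noncomputable def qq : Fin (nn R A) → A := (exists_coords R A).choose_spec.choose

variable (R A) in
/-- The coordinates. -/
noncomputable def co : Fin (nn R A) → (A →ₗ[R] R) := (exists_coords R A).choose_spec.choose_spec.choose

theorem sum_co (a : A) : ∑ i, co R A i a • qq R A i = a := (exists_coords R A).choose_spec.choose_spec.choose_spec a

variable {L : Type u} [CommRing L] [Algebra R L]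

variable (R A L) in
/-- Extension of the generators. -/
noncomputable def pi : (Fin (nn R A) → L) →ₗ[L] L ⊗[R] A :=
  ∑ i, (LinearMap.proj i : (Fin (nn R A) → L) →ₗ[L] L).smulRight ((1 : L) ⊗ₜ[R] qq R A i)

theorem pi_apply (v : Fin (nn R A) → L) : pi R A L v = ∑ i, v i • ((1 : L) ⊗ₜ[R] qq R A i) := by
  simp [pi]

variable (R A L) in
/-- Extension of the coordinates. -/
noncomputable def ss : L ⊗[R] A →ₗ[L] (Fin (nn R A) → L) :=
  LinearMap.pi fun i => (AlgebraTensorModule.rid R L L).toLinearMap ∘ₗ (co R A i).baseChange L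

theorem ss_tmul (l : L) (a : A) (i) : ss R A L (l ⊗ₜ[R] a) i = co R A i a • l := by
  simp [ss]

theorem pi_ss (z : L ⊗[R] A) : pi R A L (ss R A L z) = z := by
  induction z using TensorProduct.induction_on with
  | zero => simp
  | add x y hx hy => simp only [map_add, hx, hy]
  | tmul l a =>
    rw [pi_apply]
    conv_rhs => rw [← sum_co (R := R) a, TensorProduct.tmul_sum]
    refine Finset.sum_congr rfl fun i _ => ?_
    rw [ss_tmul, TensorProduct.smul_tmul', smul_eq_mul, mul_one, TensorProduct.smul_tmul]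

variable (R A L) in
/-- Extension of endomorphisms to the free module. -/
noncomputable def ext : Module.End L (L ⊗[R] A) →* Module.End L (Fin (nn R A) → L) where
  toFun h := ss R A L ∘ₗ h ∘ₗ pi R A L + (LinearMap.id - ss R A L ∘ₗ pi R A L)
  map_one' := LinearMap.ext fun v => by simp
  map_mul' f g := LinearMap.ext fun v => by
    simp only [Module.End.mul_apply, LinearMap.add_apply, LinearMap.comp_apply, LinearMap.sub_apply,
      LinearMap.id_apply, map_add, map_sub, pi_ss]
    abel

variable (R A) in
/-- The norm. -/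
noncomputable def nrm : L ⊗[R] A →* L :=
  (LinearMap.det : Module.End L (Fin (nn R A) → L) →* L).comp
    ((ext R A L).comp (Algebra.lmul L (L ⊗[R] A) : L ⊗[R] A →* Module.End L (L ⊗[R] A)))

/-- The matrix computing the norm. -/
theorem nrm_eq (z : L ⊗[R] A) :
    nrm R A z = (Matrix.of fun i j => ss R A L (z * ((1 : L) ⊗ₜ[R] qq R A j)) i +
      ((if i = j then (1 : L) else 0) - ss R A L ((1 : L) ⊗ₜ[R] qq R A j) i)).det := by
  show LinearMap.det (ext R A L (Algebra.lmul L (L ⊗[R] A) z)) = _
  rw [← LinearMap.det_toMatrix']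
  congr 1
  ext i j
  have hp : pi R A L (Pi.single j 1) = (1 : L) ⊗ₜ[R] qq R A j := by
    rw [pi_apply]
    simp [Pi.single_apply, ite_smul]
  rw [Matrix.of_apply]
  show (ss R A L (z * pi R A L (Pi.single j 1)) + ((Pi.single j (1 : L) : Fin (nn R A) → L) - ss R A L (pi R A L (Pi.single j 1))) : Fin (nn R A) → L) i = _
  rw [hp, Pi.add_apply, Pi.sub_apply, Pi.single_apply]

variable {L' : Type u} [CommRing L'] [Algebra R L']

theorem ss_map (f : L →ₐ[R] L') (z : L ⊗[R] A) (i) :
    ss R A L' (Algebra.TensorProduct.map f (AlgHom.id R A) z) i = f (ss R A L z i) := by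
  induction z using TensorProduct.induction_on with
  | zero => simp
  | add x y hx hy => simp only [map_add, Pi.add_apply, hx, hy]
  | tmul l a => simp only [Algebra.TensorProduct.map_tmul, AlgHom.id_apply, ss_tmul, map_smul]

theorem nrm_map (f : L →ₐ[R] L') (z : L ⊗[R] A) :
    nrm R A (Algebra.TensorProduct.map f (AlgHom.id R A) z) = f (nrm R A z) := by
  rw [nrm_eq, nrm_eq, AlgHom.map_det]
  congr 1
  ext i j
  have h1 : (1 : L') ⊗ₜ[R] qq R A j = Algebra.TensorProduct.map f (AlgHom.id R A) ((1 : L) ⊗ₜ[R] qq R A j) := by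
    simp
  simp only [AlgHom.mapMatrix_apply, Matrix.map_apply, Matrix.of_apply, map_add, map_sub, apply_ite f, map_one, map_zero]
  rw [h1, ← map_mul, ss_map, ss_map]

theorem nrm_algEquiv (e : L ⊗[R] A ≃ₐ[L] L ⊗[R] A) (z : L ⊗[R] A) : nrm R A (e z) = nrm R A z := by
  have h1 : Algebra.lmul L (L ⊗[R] A) (e z) * (e.toLinearMap : Module.End L (L ⊗[R] A)) =
      (e.toLinearMap : Module.End L (L ⊗[R] A)) * Algebra.lmul L (L ⊗[R] A) z :=
    LinearMap.ext fun x => (map_mul e z x).symm
  have h2 : (e.toLinearMap : Module.End L (L ⊗[R] A)) * e.symm.toLinearMap = 1 :=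
    LinearMap.ext fun x => e.apply_symm_apply x
  let d : Module.End L (L ⊗[R] A) →* L := (LinearMap.det : Module.End L (Fin (nn R A) → L) →* L).comp (ext R A L)
  have hu : IsUnit (d e.toLinearMap) :=
    IsUnit.of_mul_eq_one (d e.symm.toLinearMap) (by rw [← map_mul, h2, map_one])
  have h3 := congrArg d h1
  rw [map_mul, map_mul, mul_comm] at h3
  exact hu.mul_left_cancel h3

theorem nrm_eq_zero_iff {K : Type u} [Field K] [Algebra R K] (z : K ⊗[R] A) : nrm R A z = 0 ↔ ¬ IsUnit z := by
  refine ⟨fun h hu => (hu.map (nrm R A)).ne_zero h, fun hz => ?_⟩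
  by_contra h
  haveI : Module.Finite K (K ⊗[R] A) := inferInstance
  haveI : IsArtinianRing (K ⊗[R] A) := IsArtinianRing.of_finite K _
  have hinj : Function.Injective (ext R A K (Algebra.lmul K (K ⊗[R] A) z)) := by
    have := LinearMap.isUnit_iff_isUnit_det _ |>.mpr (isUnit_iff_ne_zero.mpr h)
    exact ((Module.End.isUnit_iff _).mp this).1
  refine hz (IsArtinianRing.isUnit_of_mem_nonZeroDivisors ?_)
  refine mem_nonZeroDivisors_iff_right.mpr fun x hx => ?_
  have h1 : ext R A K (Algebra.lmul K (K ⊗[R] A) z) (ss R A K x) = ext R A K (Algebra.lmul K (K ⊗[R] A) z) 0 := by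
    rw [map_zero]
    show ss R A K (z * pi R A K (ss R A K x)) + (ss R A K x - ss R A K (pi R A K (ss R A K x))) = 0
    rw [pi_ss, mul_comm, hx, map_zero, sub_self, add_zero]
  have h2 := congrArg (pi R A K) (hinj h1)
  rwa [pi_ss, map_zero] at h2

end Groth.Agent.MiscTwoH99.FinOrbit
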