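import Groth.Agent.MiscTwoH99.FinOrbit.Norm
import Groth.Prelude.Def_CoactBr
import Mathlib.FieldTheory.IsAlgClosed.Basic

/-! Orbit maps of a coaction, and transitivity on geometric points with the same image in the invariants. -/

universe u

open TensorProduct
open scoped CategoryTheory.MonObj

namespace Groth.Agent.MiscTwoH99.FinOrbit

variable {R A B L L' : Type u} [CommRing R] [CommRing A] [HopfAlgebra R A]
  [CommRing B] [Algebra R B] [CommRing L] [Algebra R L] [CommRing L'] [Algebra R L']

/-- The counit at `L`. -/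
noncomputable abbrev eps (R A L : Type u) [CommRing R] [CommRing A] [HopfAlgebra R A] [CommRing L] [Algebra R L] :
    A →ₐ[R] L := (Algebra.ofId R L).comp (Bialgebra.counitAlgHom R A)

/-- Translation. -/
noncomputable def tau (g : A →ₐ[R] L) : L ⊗[R] A →ₐ[L] L ⊗[R] A :=
  Algebra.TensorProduct.lift (Algebra.ofId L _)
    ((Algebra.TensorProduct.map g (AlgHom.id R A)).comp (Bialgebra.comulAlgHom R A)) fun _ _ => .all _ _

theorem tau_tmul (g : A →ₐ[R] L) (l : L) (a : A) : tau g (l ⊗ₜ[R] a) = (l ⊗ₜ[R] (1 : A)) *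
    Algebra.TensorProduct.map g (AlgHom.id R A) (Coalgebra.comul (R := R) a) := by
  simp [tau]

theorem tau_map (g : A →ₐ[R] L) (x : B →ₐ[R] L) (z : B ⊗[R] A) :
    tau g (Algebra.TensorProduct.map x (AlgHom.id R A) z) =
      Algebra.TensorProduct.map (Algebra.TensorProduct.lift x g fun _ _ => .all _ _) (AlgHom.id R A)
        ((TensorProduct.assoc R B A A).symm ((Coalgebra.comul (R := R)).lTensor B z)) := by
  induction z using TensorProduct.induction_on with
  | zero => simp
  | add p q hp hq => simp only [map_add, hp, hq]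
  | tmul b a =>
    rw [Algebra.TensorProduct.map_tmul, AlgHom.id_apply, tau_tmul, LinearMap.lTensor_tmul]
    induction Coalgebra.comul (R := R) a using TensorProduct.induction_on with
    | zero => simp
    | add p q hp hq => simp only [map_add, TensorProduct.tmul_add, mul_add, hp, hq]
    | tmul c d => simp

/-- Convolution. -/
noncomputable def conv (g h : A →ₐ[R] L) : A →ₐ[R] L :=
  (Algebra.TensorProduct.lift g h fun _ _ => .all _ _).comp (Bialgebra.comulAlgHom R A)

theorem tau_tau (g h : A →ₐ[R] L) (z : L ⊗[R] A) : tau g (tau h z) = tau (conv h g) z := by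
  induction z using TensorProduct.induction_on with
  | zero => simp
  | add p q hp hq => simp only [map_add, hp, hq]
  | tmul l a =>
    rw [tau_tmul, tau_tmul, map_mul, tau_map, ← Coalgebra.coassoc_apply, LinearEquiv.symm_apply_apply]
    congr 1
    · simp [tau_tmul, ← Algebra.TensorProduct.one_def]
    · induction Coalgebra.comul (R := R) a using TensorProduct.induction_on with
      | zero => simp
      | add p q hp hq => simp only [map_add, hp, hq]
      | tmul c d => simp [conv]

theorem tau_eps (z : L ⊗[R] A) : tau (eps R A L) z = z := by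
  induction z using TensorProduct.induction_on with
  | zero => simp
  | add p q hp hq => simp only [map_add, hp, hq]
  | tmul l a =>
    have h : ∀ y : A ⊗[R] A, Algebra.TensorProduct.map (eps R A L) (AlgHom.id R A) y =
        (1 : L) ⊗ₜ[R] TensorProduct.lid R A ((Coalgebra.counit (R := R)).rTensor A y) := fun y => by
      induction y using TensorProduct.induction_on with
      | zero => simp
      | add p q hp hq => simp only [map_add, TensorProduct.tmul_add, hp, hq]
      | tmul c d => simp [eps, Algebra.algebraMap_eq_smul_one, TensorProduct.smul_tmul]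
    rw [tau_tmul, h, Coalgebra.rTensor_counit_comul, TensorProduct.lid_tmul, one_smul]
    simp

theorem conv_antipode (g : A →ₐ[R] L) : conv g (g.comp (HopfAlgebra.antipodeAlgHom R A)) = eps R A L ∧
    conv (g.comp (HopfAlgebra.antipodeAlgHom R A)) g = eps R A L := by
  constructor
  · apply CoactBr.pt_injective
    rw [conv, ← CoactBr.pt_mul_pt, ← CoactBr.pt_inv, mul_inv_cancel, CoactBr.one_eq_pt]
  · apply CoactBr.pt_injective
    rw [conv, ← CoactBr.pt_mul_pt, ← CoactBr.pt_inv, inv_mul_cancel, CoactBr.one_eq_pt]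

/-- Translation is an automorphism. -/
noncomputable def tauEquiv (g : A →ₐ[R] L) : L ⊗[R] A ≃ₐ[L] L ⊗[R] A :=
  AlgEquiv.ofAlgHom (tau g) (tau (g.comp (HopfAlgebra.antipodeAlgHom R A)))
    (AlgHom.ext fun z => by rw [AlgHom.comp_apply, tau_tau, (conv_antipode g).2, tau_eps]; rfl)
    (AlgHom.ext fun z => by rw [AlgHom.comp_apply, tau_tau, (conv_antipode g).1, tau_eps]; rfl)

variable [HopfRep.Comod R A B] [GLin.IsCoactAlg R A B]

/-- The orbit map of a point. -/
noncomputable def orb (x : B →ₐ[R] L) : B →ₐ[R] L ⊗[R] A :=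
  (Algebra.TensorProduct.map x (AlgHom.id R A)).comp (GLin.coactAlgHom R A B)

/-- A point moved by a point of the group. -/
noncomputable def act (x : B →ₐ[R] L) (g : A →ₐ[R] L) : B →ₐ[R] L :=
  (Algebra.TensorProduct.lift x g fun _ _ => .all _ _).comp (GLin.coactAlgHom R A B)

theorem map_orb (f : L →ₐ[R] L') (x : B →ₐ[R] L) (b : B) :
    Algebra.TensorProduct.map f (AlgHom.id R A) (orb (A := A) x b) = orb (f.comp x) b := by
  show Algebra.TensorProduct.map f (AlgHom.id R A) (Algebra.TensorProduct.map x (AlgHom.id R A) _) =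
    Algebra.TensorProduct.map (f.comp x) (AlgHom.id R A) _
  rw [← AlgHom.comp_apply, ← Algebra.TensorProduct.map_comp, AlgHom.id_comp]

theorem comp_act (f : L →ₐ[R] L') (x : B →ₐ[R] L) (g : A →ₐ[R] L) :
    f.comp (act x g) = act (f.comp x) (f.comp g) := by
  refine AlgHom.ext fun b => ?_
  show f (Algebra.TensorProduct.lift x g (fun _ _ => .all _ _) (GLin.coactAlgHom R A B b)) =
    Algebra.TensorProduct.lift (f.comp x) (f.comp g) (fun _ _ => .all _ _) (GLin.coactAlgHom R A B b)
  induction GLin.coactAlgHom R A B b using TensorProduct.induction_on with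
  | zero => simp
  | add p q hp hq => simp only [map_add, hp, hq]
  | tmul c d => simp

theorem orb_act (x : B →ₐ[R] L) (g : A →ₐ[R] L) (b : B) : orb (A := A) (act x g) b = tau g (orb x b) := by
  show Algebra.TensorProduct.map (act x g) (AlgHom.id R A) (GLin.coactAlgHom R A B b) = tau g _
  rw [orb, AlgHom.comp_apply, tau_map, GLin.coactAlgHom_apply]
  have h := LinearMap.congr_fun (HopfRep.Comod.coassoc (k := R) (A := A) (V := B)) b
  simp only [LinearMap.comp_apply, LinearEquiv.coe_coe] at h
  rw [← h, LinearEquiv.symm_apply_apply]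
  induction HopfRep.Comod.coact (k := R) (A := A) b using TensorProduct.induction_on with
  | zero => simp
  | add p q hp hq => simp only [map_add, hp, hq]
  | tmul c d =>
    simp only [Algebra.TensorProduct.map_tmul, AlgHom.id_apply, LinearMap.rTensor_tmul]
    rfl

theorem act_eps (x : B →ₐ[R] L) : act x (eps R A L) = x := by
  refine AlgHom.ext fun b => ?_
  have h := congrArg (fun z => x (TensorProduct.rid R B z))
    (LinearMap.congr_fun (HopfRep.Comod.counit_comp (k := R) (A := A) (V := B)) b)
  simp only [LinearMap.comp_apply, LinearMap.flip_apply, TensorProduct.mk_apply, TensorProduct.rid_tmul, one_smul] at h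
  refine Eq.trans ?_ h
  show Algebra.TensorProduct.lift x (eps R A L) (fun _ _ => .all _ _) (GLin.coactAlgHom R A B b) = _
  rw [GLin.coactAlgHom_apply]
  induction HopfRep.Comod.coact (k := R) (A := A) b using TensorProduct.induction_on with
  | zero => simp
  | add p q hp hq => simp only [map_add, hp, hq]
  | tmul c d => simp [eps, Algebra.smul_def, mul_comm]

theorem lift_orb (x : B →ₐ[R] L) (g : A →ₐ[R] L) (b : B) :
    Algebra.TensorProduct.lift (AlgHom.id R L) g (fun _ _ => .all _ _) (orb (A := A) x b) = act x g b := by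
  show Algebra.TensorProduct.lift (AlgHom.id R L) g (fun _ _ => .all _ _) (Algebra.TensorProduct.map x (AlgHom.id R A) (GLin.coactAlgHom R A B b)) =
    Algebra.TensorProduct.lift x g (fun _ _ => .all _ _) (GLin.coactAlgHom R A B b)
  induction GLin.coactAlgHom R A B b using TensorProduct.induction_on with
  | zero => simp
  | add p q hp hq => simp only [map_add, hp, hq]
  | tmul c d => simp

variable [Module.Finite R A] [Module.Projective R A]

/-- The norm of a universal combination of orbit maps has invariant coefficients. -/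
theorem exists_invariant {n : ℕ} (b : Fin n → B) :
    ∃ d : MvPolynomial (Fin n) (GLin.invariants R A B), ∀ (L : Type u) [CommRing L] [Algebra R L] (x : B →ₐ[R] L)
      (c : Fin n → L), MvPolynomial.aevalTower (x.comp (GLin.invariants R A B).val) c d =
        nrm R A (∑ i, c i • orb (A := A) x (b i)) := by
  classical
  have hnat : ∀ {L L' : Type u} [CommRing L] [Algebra R L] [CommRing L'] [Algebra R L'] (f : L →ₐ[R] L')
      (x : B →ₐ[R] L) (c : Fin n → L),
      f (nrm R A (∑ i, c i • orb (A := A) x (b i))) = nrm R A (∑ i, f (c i) • orb (A := A) (f.comp x) (b i)) := by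
    intro L L' _ _ _ _ f x c
    rw [← nrm_map]
    congr 1
    rw [map_sum]
    refine Finset.sum_congr rfl fun i _ => ?_
    rw [Algebra.smul_def, map_mul, map_orb, Algebra.smul_def]
    congr 1
  let C₀ := IsScalarTower.toAlgHom R B (MvPolynomial (Fin n) B)
  let D := nrm R A (∑ i, (MvPolynomial.X i : MvPolynomial (Fin n) B) • orb (A := A) C₀ (b i))
  let L₁ := MvPolynomial (Fin n) (B ⊗[R] A)
  let C₁ : B ⊗[R] A →ₐ[R] L₁ := IsScalarTower.toAlgHom R (B ⊗[R] A) L₁
  have hpull : ∀ (f : B →ₐ[R] B ⊗[R] A), MvPolynomial.mapAlgHom f D =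
      nrm R A (∑ i, (MvPolynomial.X i : L₁) • orb (A := A) (C₁.comp f) (b i)) := fun f => by
    rw [hnat]
    congr 1
    refine Finset.sum_congr rfl fun i _ => ?_
    rw [show MvPolynomial.mapAlgHom f (MvPolynomial.X i : MvPolynomial (Fin n) B) = MvPolynomial.X i by simp,
      show (MvPolynomial.mapAlgHom f).comp C₀ = C₁.comp f from AlgHom.ext fun b => by
        simp [C₀, C₁, L₁, IsScalarTower.toAlgHom, MvPolynomial.algebraMap_eq]]
  have hact : C₁.comp (GLin.coactAlgHom R A B) =
      act (C₁.comp Algebra.TensorProduct.includeLeft) (C₁.comp Algebra.TensorProduct.includeRight) := by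
    refine AlgHom.ext fun b => ?_
    show C₁ (GLin.coactAlgHom R A B b) = Algebra.TensorProduct.lift _ _ (fun _ _ => .all _ _) (GLin.coactAlgHom R A B b)
    induction GLin.coactAlgHom R A B b using TensorProduct.induction_on with
    | zero => simp
    | add p q hp hq => simp only [map_add, hp, hq]
    | tmul c d => simp [← map_mul]
  have hinv : MvPolynomial.mapAlgHom (GLin.coactAlgHom R A B) D =
      MvPolynomial.mapAlgHom (Algebra.TensorProduct.includeLeft : B →ₐ[R] B ⊗[R] A) D := by
    rw [hpull, hpull, hact]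
    refine Eq.trans ?_ (nrm_algEquiv (tauEquiv (C₁.comp Algebra.TensorProduct.includeRight)) _)
    congr 1
    rw [map_sum]
    refine Finset.sum_congr rfl fun i _ => ?_
    rw [map_smul, orb_act]
    rfl
  have hcoef : ∀ m, D.coeff m ∈ GLin.invariants R A B := fun m => by
    have h := congrArg (fun p => MvPolynomial.coeff m p) hinv
    simp only [MvPolynomial.mapAlgHom_apply, MvPolynomial.coeff_map] at h
    exact (GLin.mem_invariants_iff R A B _).mpr h
  refine ⟨∑ m ∈ D.support, MvPolynomial.monomial m ⟨D.coeff m, hcoef m⟩, fun L _ _ x c => ?_⟩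
  have h1 : MvPolynomial.aevalTower (x.comp (GLin.invariants R A B).val) c
      (∑ m ∈ D.support, MvPolynomial.monomial m ⟨D.coeff m, hcoef m⟩) = MvPolynomial.aevalTower x c D := by
    conv_rhs => rw [D.as_sum]
    rw [map_sum, map_sum]
    refine Finset.sum_congr rfl fun m _ => ?_
    simp [MvPolynomial.aevalTower]
  rw [h1]
  show MvPolynomial.aevalTower x c (nrm R A (∑ i, (MvPolynomial.X i : MvPolynomial (Fin n) B) • orb (A := A) C₀ (b i))) = _
  rw [hnat]
  congr 1
  refine Finset.sum_congr rfl fun i _ => ?_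
  rw [MvPolynomial.aevalTower_X, show (MvPolynomial.aevalTower x c).comp C₀ = x from AlgHom.ext fun b => by
    simp [C₀, IsScalarTower.toAlgHom, MvPolynomial.algebraMap_eq]]

/-- The orbit map on combinations. -/
noncomputable def Orb (x : B →ₐ[R] L) : L ⊗[R] B →ₐ[L] L ⊗[R] A :=
  Algebra.TensorProduct.lift (Algebra.ofId L _) (orb (A := A) x) fun _ _ => .all _ _

theorem nrm_Orb_eq {x₁ x₂ : B →ₐ[R] L}
    (h : x₁.comp (GLin.invariants R A B).val = x₂.comp (GLin.invariants R A B).val) (f : L ⊗[R] B) :
    nrm R A (Orb (A := A) x₁ f) = nrm R A (Orb (A := A) x₂ f) := by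
  classical
  obtain ⟨T, hT⟩ := TensorProduct.exists_finset f
  let e := T.equivFin.symm
  obtain ⟨d, hd⟩ := exists_invariant (R := R) (A := A) (fun i => (e i).1.2)
  have h1 : ∀ x : B →ₐ[R] L, nrm R A (Orb (A := A) x f) =
      MvPolynomial.aevalTower (x.comp (GLin.invariants R A B).val) (fun i => (e i).1.1) d := fun x => by
    rw [hd L x]
    congr 1
    rw [hT, map_sum, ← Finset.sum_attach T, ← Finset.univ_eq_attach, ← Equiv.sum_comp e]
    refine Finset.sum_congr rfl fun i _ => ?_
    simp [Orb, Algebra.smul_def]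
  rw [h1, h1, h]

theorem isUnit_Orb {K : Type u} [Field K] [Algebra R K] {x : B →ₐ[R] K} (f : K ⊗[R] B)
    (h : ¬ IsUnit (Algebra.TensorProduct.lift (Algebra.ofId K K) x (fun _ _ => .all _ _) f)) :
    ¬ IsUnit (Orb (A := A) x f) := by
  intro hu
  apply h
  have h1 := hu.map (Algebra.TensorProduct.lift (Algebra.ofId K K) (eps R A K) fun _ _ => .all _ _)
  rw [← AlgHom.comp_apply] at h1
  convert h1 using 1
  congr 1
  refine Algebra.TensorProduct.ext (Subsingleton.elim _ _) (AlgHom.ext fun b => ?_)
  show Algebra.TensorProduct.lift (Algebra.ofId K K) x (fun _ _ => .all _ _) ((1 : K) ⊗ₜ[R] b) =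
    Algebra.TensorProduct.lift (Algebra.ofId K K) (eps R A K) (fun _ _ => .all _ _) (Orb (A := A) x ((1 : K) ⊗ₜ[R] b))
  simp only [Orb, Algebra.TensorProduct.lift_tmul, map_one, one_mul]
  conv_lhs => rw [← act_eps (A := A) x, ← lift_orb]
  induction orb (A := A) x b using TensorProduct.induction_on with
  | zero => simp
  | add p q hp hq => simp only [map_add, hp, hq]
  | tmul c d => simp

/-- Geometric points with the same image in the invariants are conjugate. -/
theorem exists_act_eq {K : Type u} [Field K] [IsAlgClosed K] [Algebra R K] {x₁ x₂ : B →ₐ[R] K}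
    (h : x₁.comp (GLin.invariants R A B).val = x₂.comp (GLin.invariants R A B).val) :
    ∃ g : A →ₐ[R] K, act x₁ g = x₂ := by
  classical
  haveI : Module.Finite K (K ⊗[R] A) := inferInstance
  haveI : IsArtinianRing (K ⊗[R] A) := IsArtinianRing.of_finite K _
  let G := K ⊗[R] A →ₐ[K] K
  haveI : Finite G := Finite.of_injective (β := MaximalSpectrum (K ⊗[R] A))
    (fun φ => ⟨RingHom.ker φ, RingHom.ker_isMaximal_of_surjective φ fun y => ⟨algebraMap K _ y, φ.commutes y⟩⟩)
    fun φ ψ hφ => by
      refine AlgHom.ext fun z => ?_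
      have h1 : z - algebraMap K (K ⊗[R] A) (φ z) ∈ RingHom.ker φ := by
        rw [RingHom.mem_ker, map_sub, AlgHom.commutes]
        exact sub_self _
      rw [show RingHom.ker φ = RingHom.ker ψ from congrArg MaximalSpectrum.asIdeal hφ, RingHom.mem_ker, map_sub,
        AlgHom.commutes] at h1
      exact (sub_eq_zero.mp h1).symm
  haveI := Fintype.ofFinite G
  let pt : G → (A →ₐ[R] K) := fun φ => (φ.restrictScalars R).comp Algebra.TensorProduct.includeRight
  let ev : (B →ₐ[R] K) → (K ⊗[R] B →ₐ[K] K) := fun x =>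
    Algebra.TensorProduct.lift (Algebra.ofId K K) x fun _ _ => .all _ _
  by_contra hcon
  push Not at hcon
  have hb : ∀ φ : G, ∃ b : B, act x₁ (pt φ) b ≠ x₂ b := fun φ => by
    by_contra hb
    push Not at hb
    exact hcon _ (AlgHom.ext hb)
  choose b hb using hb
  let w : G → K ⊗[R] B := fun φ =>
    (act x₁ (pt φ) (b φ) - x₂ (b φ))⁻¹ • (algebraMap K (K ⊗[R] B) (act x₁ (pt φ) (b φ)) - (1 : K) ⊗ₜ[R] b φ)
  let f : K ⊗[R] B := 1 - ∏ φ, w φ
  have hw : ∀ φ (x : B →ₐ[R] K), ev x (w φ) =
      (act x₁ (pt φ) (b φ) - x₂ (b φ))⁻¹ * (act x₁ (pt φ) (b φ) - x (b φ)) := fun φ x => by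
    simp only [w, map_smul, map_sub, AlgHom.commutes, smul_eq_mul]
    simp [ev]
  have hf2 : ev x₂ f = 0 := by
    simp only [f, map_sub, map_one, map_prod, hw]
    rw [Finset.prod_eq_one fun φ _ => inv_mul_cancel₀ (sub_ne_zero.mpr (hb φ)), sub_self]
  have h2 : ¬ IsUnit (Orb (A := A) x₂ f) := isUnit_Orb f (by rw [show Algebra.TensorProduct.lift _ x₂ (fun _ _ => .all _ _) f = 0 from hf2]; exact not_isUnit_zero)
  rw [← nrm_eq_zero_iff, ← nrm_Orb_eq h, nrm_eq_zero_iff] at h2
  obtain ⟨M, hM, hz⟩ := exists_max_ideal_of_mem_nonunits (mem_nonunits_iff.mpr h2)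
  haveI := hM
  letI := Ideal.Quotient.field M
  haveI : Algebra.IsIntegral K ((K ⊗[R] A) ⧸ M) := Algebra.IsIntegral.of_finite K _
  let e := AlgEquiv.ofBijective (Algebra.ofId K ((K ⊗[R] A) ⧸ M)) IsAlgClosed.algebraMap_bijective_of_isIntegral
  let φ : G := e.symm.toAlgHom.comp (Ideal.Quotient.mkₐ K M)
  have hev : φ.comp (Orb (A := A) x₁) = ev (act x₁ (pt φ)) := by
    refine Algebra.TensorProduct.ext (Subsingleton.elim _ _) (AlgHom.ext fun c => ?_)
    show φ (Orb (A := A) x₁ ((1 : K) ⊗ₜ[R] c)) = ev (act x₁ (pt φ)) ((1 : K) ⊗ₜ[R] c)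
    simp only [Orb, ev, Algebra.TensorProduct.lift_tmul, map_one, one_mul]
    rw [← lift_orb]
    induction orb (A := A) x₁ c using TensorProduct.induction_on with
    | zero => simp
    | add p q hp hq => simp only [map_add, hp, hq]
    | tmul c d =>
      rw [Algebra.TensorProduct.lift_tmul, show c ⊗ₜ[R] d = algebraMap K (K ⊗[R] A) c * ((1 : K) ⊗ₜ[R] d) by simp,
        map_mul, AlgHom.commutes]
      rfl
  have h3 : φ (Orb (A := A) x₁ f) = 0 := by
    show e.symm (Ideal.Quotient.mk M _) = 0
    rw [Ideal.Quotient.eq_zero_iff_mem.mpr hz, map_zero]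
  rw [← AlgHom.comp_apply, hev] at h3
  have h4 : ev (act x₁ (pt φ)) f = 1 := by
    simp only [f, map_sub, map_one, map_prod]
    rw [Finset.prod_eq_zero (Finset.mem_univ φ) (by rw [hw, sub_self, mul_zero]), sub_zero]
  exact one_ne_zero (h4.symm.trans h3)

end Groth.Agent.MiscTwoH99.FinOrbit
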