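import Groth.Agent.MiscTwoH99.FinOrbit.Inertia

/-! Points with values in schemes and points with values in algebras. -/

universe u

open CategoryTheory MonoidalCategory CartesianMonoidalCategory AlgebraicGeometry
open scoped MonObj

namespace Groth.Agent.MiscTwoH99.FinOrbit

variable {R : Type u} [CommRing R]

/-- A scheme over an affine base maps universally to the spectrum of its functions. -/
theorem exists_aff (T : Over (Spec (CommRingCat.of R))) :
    ∃ (L : Type u) (_ : CommRing L) (_ : Algebra R L) (η₀ : T ⟶ CoactBr.sp R L),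
      ∀ (B : Type u) [CommRing B] [Algebra R B],
        Function.Bijective fun φ : B →ₐ[R] L => η₀ ≫ CoactBr.pt φ := by
  let r : R →+* Γ(T.left, ⊤) := ((Scheme.ΓSpecIso (CommRingCat.of R)).inv ≫ T.hom.appTop).hom
  letI : Algebra R Γ(T.left, ⊤) := r.toAlgebra
  have hη : T.left.toSpecΓ ≫ Spec.map (CommRingCat.ofHom r) = T.hom := by
    show T.left.toSpecΓ ≫ Spec.map ((Scheme.ΓSpecIso (CommRingCat.of R)).inv ≫ T.hom.appTop) = T.hom
    rw [Spec.map_comp, ← Scheme.toSpecΓ_naturality_assoc]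
    simp
  let η₀ : T ⟶ CoactBr.sp R Γ(T.left, ⊤) := Over.homMk T.left.toSpecΓ hη
  refine ⟨Γ(T.left, ⊤), inferInstance, inferInstance, η₀, fun B _ _ => ⟨fun φ ψ h => ?_, fun f => ?_⟩⟩
  · have h1 : T.left.toSpecΓ ≫ Spec.map (CommRingCat.ofHom φ.toRingHom) =
        T.left.toSpecΓ ≫ Spec.map (CommRingCat.ofHom ψ.toRingHom) := congrArg Over.Hom.left h
    have h2 := (ΓSpec.adjunction.homEquiv T.left (Opposite.op (CommRingCat.of B))).injective
      (a₁ := (CommRingCat.ofHom φ.toRingHom).op) (a₂ := (CommRingCat.ofHom ψ.toRingHom).op) (by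
        rw [Adjunction.homEquiv_unit, Adjunction.homEquiv_unit]
        exact h1)
    exact AlgHom.coe_ringHom_injective (congrArg CommRingCat.Hom.hom (Quiver.Hom.op_inj h2))
  · let f' : T.left ⟶ Spec (CommRingCat.of B) := f.left
    let q : CommRingCat.of B ⟶ Γ(T.left, ⊤) := (Scheme.ΓSpecIso (CommRingCat.of B)).inv ≫ f'.appTop
    have hq : T.left.toSpecΓ ≫ Spec.map q = f' := by
      rw [Spec.map_comp, ← Scheme.toSpecΓ_naturality_assoc]
      simp
    refine ⟨{ q.hom with commutes' := fun c => ?_ }, Over.OverMorphism.ext hq⟩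
    have h3 : CommRingCat.ofHom (algebraMap R B) ≫ q = CommRingCat.ofHom r := by
      refine Quiver.Hom.op_inj ((ΓSpec.adjunction.homEquiv T.left (Opposite.op (CommRingCat.of R))).injective ?_)
      rw [Adjunction.homEquiv_unit, Adjunction.homEquiv_unit]
      show T.left.toSpecΓ ≫ Spec.map (CommRingCat.ofHom (algebraMap R B) ≫ q) =
        T.left.toSpecΓ ≫ Spec.map (CommRingCat.ofHom r)
      rw [hη, Spec.map_comp, ← Category.assoc, hq]
      exact Over.w f
    exact congrArg (fun w => w.hom c) h3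

variable {A B : Type u} [CommRing A] [HopfAlgebra R A] [CommRing B] [Algebra R B] [HopfRep.Comod R A B]
  [GLin.IsCoactAlg R A B]

theorem action_pt {L : Type u} [CommRing L] [Algebra R L] (y : B →ₐ[R] L) (g : A →ₐ[R] L) :
    lift (CoactBr.pt g)⁻¹ (CoactBr.pt y) ≫ (CoactBr.action R A B).act = CoactBr.pt (act y g) := by
  rw [CoactBr.lift_action_act, inv_inv, CoactBr.lift_pt_ract]
  rfl

theorem forall_pts {L : Type u} [CommRing L] [Algebra R L] (y : B →ₐ[R] L) {T : Over (Spec (CommRingCat.of R))}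
    (η₀ : T ⟶ CoactBr.sp R L) (hinj : Function.Injective fun φ : B →ₐ[R] L => η₀ ≫ CoactBr.pt φ)
    (hA : Function.Surjective fun φ : A →ₐ[R] L => η₀ ≫ CoactBr.pt φ)
    (H : ∀ g : A →ₐ[R] L, act y g = y → g = eps R A L) (k : T ⟶ CoactBr.sp R A)
    (hk : lift k (η₀ ≫ CoactBr.pt y) ≫ (CoactBr.action R A B).act = η₀ ≫ CoactBr.pt y) : k = 1 := by
  obtain ⟨g, hg⟩ := hA k⁻¹
  have hk' : k = η₀ ≫ (CoactBr.pt g)⁻¹ := by
    rw [GrpObj.comp_inv, show η₀ ≫ CoactBr.pt g = k⁻¹ from hg, inv_inv]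
  rw [hk', ← comp_lift, Category.assoc, action_pt] at hk
  rw [hk', H g (hinj hk), ← CoactBr.one_eq_pt, inv_one, MonObj.comp_one]

theorem triv_iff {K : Type u} [CommRing K] [Algebra R K] (x : B →ₐ[R] K) :
    (∀ (T : Over (Spec (CommRingCat.of R))) (h : T ⟶ CoactBr.sp R K) (g : T ⟶ CoactBr.sp R A),
        lift g (h ≫ CoactBr.pt x) ≫ (CoactBr.action R A B).act = h ≫ CoactBr.pt x → g = 1) ↔ Triv A x := by
  constructor
  · intro H L _ _ h g hg
    have h1 := H (CoactBr.sp R L) (CoactBr.pt h) (CoactBr.pt g)⁻¹ (by rw [← CoactBr.pt_comp, action_pt, hg])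
    exact CoactBr.pt_injective ((inv_eq_one.mp h1).trans CoactBr.one_eq_pt)
  · intro H T h g hg
    obtain ⟨L, _, _, η₀, hη⟩ := exists_aff T
    obtain ⟨ĥ, rfl⟩ := (hη K).2 h
    refine forall_pts (ĥ.comp x) η₀ (hη B).1 (hη A).2 (fun g' hg' => H L ĥ g' hg') g ?_
    rw [CoactBr.pt_comp, ← Category.assoc]
    exact hg

theorem free_iff :
    (∀ (T : Over (Spec (CommRingCat.of R))) (ζ : T ⟶ CoactBr.sp R B) (g : T ⟶ CoactBr.sp R A),
        lift g ζ ≫ (CoactBr.action R A B).act = ζ → g = 1) ↔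
      ∀ (L : Type u) [CommRing L] [Algebra R L] (y : B →ₐ[R] L) (g : A →ₐ[R] L), act y g = y → g = eps R A L := by
  constructor
  · intro H L _ _ y g hg
    exact CoactBr.pt_injective
      ((inv_eq_one.mp (H (CoactBr.sp R L) (CoactBr.pt y) (CoactBr.pt g)⁻¹ (by rw [action_pt, hg]))).trans
        CoactBr.one_eq_pt)
  · intro H T ζ g hg
    obtain ⟨L, _, _, η₀, hη⟩ := exists_aff T
    obtain ⟨y, rfl⟩ := (hη B).2 ζ
    exact forall_pts y η₀ (hη B).1 (hη A).2 (fun g' hg' => H L y g' hg') g hg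

end Groth.Agent.MiscTwoH99.FinOrbit
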