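import Groth.Agent.MiscTwoH99.FinOrbit.Inertia
import Mathlib.RingTheory.Nakayama
import Mathlib.RingTheory.Localization.Basic

/-! The stabiliser of a finite group scheme action, and the ideal measuring its failure to be trivial. -/

universe u

open TensorProduct

namespace Groth.Agent.MiscTwoH99.FinOrbit

variable (R A B : Type u) [CommRing R] [CommRing A] [HopfAlgebra R A]
  [CommRing B] [Algebra R B] [HopfRep.Comod R A B] [GLin.IsCoactAlg R A B]

/-- The equations of the stabiliser. -/
noncomputable def stabEq : Ideal (B ⊗[R] A) :=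
  Ideal.span (Set.range fun b : B => GLin.coactAlgHom R A B b - b ⊗ₜ[R] (1 : A))

/-- The ring of the stabiliser. -/
abbrev Stab := (B ⊗[R] A) ⧸ stabEq R A B

/-- The unit section. -/
noncomputable def unitSec : Stab R A B →ₐ[B] B :=
  Ideal.Quotient.liftₐ (stabEq R A B)
    (Algebra.TensorProduct.lift (AlgHom.id B B) (eps R A B) fun _ _ => .all _ _) (by
      show stabEq R A B ≤ RingHom.ker _
      refine Ideal.span_le.mpr ?_
      rintro _ ⟨b, rfl⟩
      rw [SetLike.mem_coe, RingHom.mem_ker, map_sub, Algebra.TensorProduct.lift_tmul, map_one, _root_.mul_one,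
        AlgHom.id_apply, sub_eq_zero]
      refine Eq.trans ?_ (DFunLike.congr_fun (act_eps (A := A) (AlgHom.id R B)) b)
      show _ = Algebra.TensorProduct.lift (AlgHom.id R B) (eps R A B) (fun _ _ => .all _ _) (GLin.coactAlgHom R A B b)
      induction GLin.coactAlgHom R A B b using TensorProduct.induction_on with
      | zero => simp
      | add p q hp hq => simp only [map_add, hp, hq]
      | tmul c d => simp)

variable {R A B}

/-- The universal point of the stabiliser. -/
noncomputable def gen : A →ₐ[R] Stab R A B :=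
  (Ideal.Quotient.mkₐ R (stabEq R A B)).comp Algebra.TensorProduct.includeRight

theorem unitSec_gen (a : A) : unitSec R A B (gen a) = eps R A B a := by
  show Algebra.TensorProduct.lift (AlgHom.id B B) (eps R A B) (fun _ _ => .all _ _) ((1 : B) ⊗ₜ[R] a) = _
  simp

theorem act_univ :
    act ((IsScalarTower.toAlgHom R B (Stab R A B))) (gen : A →ₐ[R] Stab R A B) =
      IsScalarTower.toAlgHom R B (Stab R A B) := by
  refine AlgHom.ext fun b => ?_
  have h : Ideal.Quotient.mk (stabEq R A B) (GLin.coactAlgHom R A B b) =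
      Ideal.Quotient.mk (stabEq R A B) (b ⊗ₜ[R] (1 : A)) :=
    Ideal.Quotient.eq.mpr (Ideal.subset_span ⟨b, rfl⟩)
  refine Eq.trans ?_ h
  show Algebra.TensorProduct.lift (IsScalarTower.toAlgHom R B (Stab R A B)) gen (fun _ _ => .all _ _)
    (GLin.coactAlgHom R A B b) = _
  induction GLin.coactAlgHom R A B b using TensorProduct.induction_on with
  | zero => simp
  | add p q hp hq => simp only [map_add, hp, hq]
  | tmul c d =>
    rw [Algebra.TensorProduct.lift_tmul]
    show Ideal.Quotient.mk _ (c ⊗ₜ[R] (1 : A)) * Ideal.Quotient.mk _ ((1 : B) ⊗ₜ[R] d) = _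
    rw [← map_mul, Algebra.TensorProduct.tmul_mul_tmul, _root_.mul_one, _root_.one_mul]

theorem exists_point {L : Type u} [CommRing L] [Algebra R L] (y : B →ₐ[R] L) (g : A →ₐ[R] L) (h : act y g = y) :
    ∃ φ : Stab R A B →ₐ[R] L, φ.comp (IsScalarTower.toAlgHom R B _) = y ∧ φ.comp gen = g := by
  refine ⟨Ideal.Quotient.liftₐ (stabEq R A B) (Algebra.TensorProduct.lift y g fun _ _ => .all _ _) ?_,
    AlgHom.ext fun b => ?_, AlgHom.ext fun a => ?_⟩
  · show stabEq R A B ≤ RingHom.ker _
    refine Ideal.span_le.mpr ?_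
    rintro _ ⟨b, rfl⟩
    rw [SetLike.mem_coe, RingHom.mem_ker, map_sub, Algebra.TensorProduct.lift_tmul, map_one, _root_.mul_one, sub_eq_zero]
    exact DFunLike.congr_fun h b
  · show Algebra.TensorProduct.lift y g (fun _ _ => .all _ _) (b ⊗ₜ[R] (1 : A)) = _
    simp
  · show Algebra.TensorProduct.lift y g (fun _ _ => .all _ _) ((1 : B) ⊗ₜ[R] a) = _
    simp

theorem algHom_ext_stab {L : Type u} [CommRing L] [Algebra R L] {φ ψ : Stab R A B →ₐ[R] L}
    (h₁ : φ.comp (IsScalarTower.toAlgHom R B _) = ψ.comp (IsScalarTower.toAlgHom R B _))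
    (h₂ : φ.comp gen = ψ.comp gen) : φ = ψ :=
  Ideal.Quotient.algHom_ext _ (Algebra.TensorProduct.ext h₁ h₂)

/-- Reduction modulo a prime of the base followed by inverting what is outside it. -/
theorem exists_fibre {R B L₀ : Type u} [CommRing R] [CommRing B] [Algebra R B] [CommRing L₀] [Algebra R L₀]
    [Algebra B L₀] [IsScalarTower R B L₀] (P : Ideal B) [P.IsPrime] :
    ∃ (L₁ : Type u) (_ : CommRing L₁) (_ : Algebra R L₁) (ν : L₀ →ₐ[R] L₁),
      (∀ b ∈ P, ν (algebraMap B L₀ b) = 0) ∧ (∀ b ∉ P, IsUnit (ν (algebraMap B L₀ b))) ∧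
        ∀ z, ν z = 0 → ∃ s ∉ P, s • z ∈ P.map (algebraMap B L₀) := by
  let I : Ideal L₀ := P.map (algebraMap B L₀)
  let T : Submonoid (L₀ ⧸ I) := Algebra.algebraMapSubmonoid (L₀ ⧸ I) P.primeCompl
  refine ⟨Localization (M := L₀ ⧸ I) T, inferInstance, inferInstance,
    (IsScalarTower.toAlgHom R (L₀ ⧸ I) (Localization (M := L₀ ⧸ I) T)).comp (Ideal.Quotient.mkₐ R I),
    fun b hb => ?_, fun b hb => ?_, fun z hz => ?_⟩
  · show algebraMap (L₀ ⧸ I) _ (Ideal.Quotient.mk I (algebraMap B L₀ b)) = 0
    rw [Ideal.Quotient.eq_zero_iff_mem.mpr (Ideal.mem_map_of_mem _ hb), map_zero]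
  · exact IsLocalization.map_units (Localization (M := L₀ ⧸ I) T)
      (⟨_, b, hb, rfl⟩ : Algebra.algebraMapSubmonoid (L₀ ⧸ I) P.primeCompl)
  · obtain ⟨⟨_, s, hs, rfl⟩, hst⟩ := (IsLocalization.map_eq_zero_iff T (Localization (M := L₀ ⧸ I) T) _).mp hz
    refine ⟨s, hs, ?_⟩
    rw [Algebra.smul_def, ← Ideal.Quotient.eq_zero_iff_mem, map_mul]
    exact hst

variable [Module.Finite R A] [Module.Projective R A]

variable (R A B) in
/-- An ideal of the base detecting the triviality of the inertia. -/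
theorem exists_ann : ∃ 𝔞 : Ideal B,
    (∀ (P : Ideal B) [P.IsPrime], Triv A (IsScalarTower.toAlgHom R B P.ResidueField) → ¬ 𝔞 ≤ P) ∧
    ∀ (L : Type u) [CommRing L] [Algebra R L] (y : B →ₐ[R] L) (g : A →ₐ[R] L) (c : B), c ∈ 𝔞 → IsUnit (y c) →
      act y g = y → g = eps R A L := by
  classical
  let L₀ := Stab R A B
  let r₀ := unitSec R A B
  let J : Submodule B L₀ := LinearMap.ker r₀.toLinearMap
  haveI : Module.Finite B L₀ := Module.Finite.of_surjective (Ideal.Quotient.mkₐ B (stabEq R A B)).toLinearMap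
    Ideal.Quotient.mk_surjective
  let pj : L₀ →ₗ[B] L₀ := LinearMap.id - (Algebra.linearMap B L₀) ∘ₗ r₀.toLinearMap
  have hpj : ∀ l, pj l ∈ J := fun l => by
    show r₀ (l - algebraMap B L₀ (r₀ l)) = 0
    rw [map_sub, AlgHom.commutes]
    exact sub_self _
  have hpj' : ∀ j ∈ J, pj j = j := fun j hj => by
    show j - algebraMap B L₀ (r₀ j) = j
    rw [show r₀ j = 0 from hj, map_zero, sub_zero]
  have hJ : J = LinearMap.range pj := le_antisymm (fun j hj => ⟨j, hpj' j hj⟩) (by rintro _ ⟨l, rfl⟩; exact hpj l)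
  haveI : Module.Finite B J := by rw [hJ]; exact Module.Finite.range pj
  refine ⟨Module.annihilator B J, fun P _ hP hle => ?_, fun L _ _ y g c hc hu hg => ?_⟩
  · -- elements outside `P` move `J` into `P • J`
    obtain ⟨L₁, _, _, ν, hν0, hνu, hνz⟩ := exists_fibre (R := R) (L₀ := L₀) P
    let νB : B →ₐ[R] L₁ := ν.comp (IsScalarTower.toAlgHom R B L₀)
    let k : P.ResidueField →ₐ[R] L₁ := Ideal.ResidueField.liftₐ P νB (fun b hb => hν0 b hb) (fun b hb => hνu b hb)
    have hk : k.comp (IsScalarTower.toAlgHom R B P.ResidueField) = νB := Ideal.ResidueField.liftₐ_comp_toAlgHom _ _ _ _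
    have hg0 : ν.comp gen = eps R A L₁ := hP L₁ k _ (by
      rw [hk]
      show act (ν.comp _) (ν.comp gen) = ν.comp _
      rw [← comp_act, act_univ])
    have hνj : ∀ j ∈ J, ν j = 0 := fun j hj => by
      have h := algHom_ext_stab (φ := ν)
        (ψ := νB.comp (r₀.restrictScalars R))
        (AlgHom.ext fun b => by
          show ν (algebraMap B L₀ b) = νB (r₀ (algebraMap B L₀ b))
          rw [AlgHom.commutes]
          rfl)
        (AlgHom.ext fun a => by
          show ν (gen a) = νB (r₀ (gen a))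
          rw [unitSec_gen, show ν (gen a) = eps R A L₁ a from DFunLike.congr_fun hg0 a]
          exact (νB.commutes _).symm)
      refine (DFunLike.congr_fun h j).trans ?_
      show νB (r₀ j) = 0
      rw [show r₀ j = 0 from hj, map_zero]
    have hmove : ∀ j ∈ J, ∃ s ∉ P, s • j ∈ P • J := fun j hj => by
      obtain ⟨s, hs, h1⟩ := hνz j (hνj j hj)
      refine ⟨s, hs, ?_⟩
      have h2 : s • j ∈ P • (⊤ : Submodule B L₀) := by
        rw [Ideal.smul_top_eq_map]
        exact h1
      have h3 := Submodule.mem_map_of_mem (f := pj) h2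
      rw [Submodule.map_smul'', map_smul, hpj' j hj] at h3
      rw [hJ]
      exact Submodule.smul_mono le_rfl (by rw [Submodule.map_top]) h3
    obtain ⟨S, hS⟩ := Module.Finite.iff_fg.mp ‹Module.Finite B J›
    choose! s hs hsj using hmove
    let σ := ∏ j ∈ S, s j
    have hSJ : ∀ j ∈ S, j ∈ J := fun j hj => hS ▸ Submodule.subset_span hj
    have hσ : σ ∉ P := fun h => by
      obtain ⟨j, hj, hj'⟩ := (Ideal.IsPrime.prod_mem_iff (p := P)).mp h
      exact hs j (hSJ j hj) hj'
    have hσJ : ∀ x ∈ J, σ • x ∈ P • J := by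
      intro x hx
      rw [← hS] at hx
      induction hx using Submodule.span_induction with
      | mem j hj =>
        obtain ⟨t, ht⟩ := Finset.dvd_prod_of_mem s hj
        show (∏ j ∈ S, s j) • j ∈ _
        rw [ht, mul_comm, mul_smul]
        exact Submodule.smul_mem _ t (hsj j (hSJ j hj))
      | zero => simp
      | add p q _ _ hp hq => rw [smul_add]; exact add_mem hp hq
      | smul b p _ hp => rw [smul_comm]; exact Submodule.smul_mem _ b hp
    have hrange : LinearMap.range (σ • (LinearMap.id : J →ₗ[B] J)) ≤ P • ⊤ := by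
      rintro _ ⟨x, rfl⟩
      rw [Submodule.mem_smul_top_iff]
      exact hσJ x x.2
    obtain ⟨χ, hχ, -, hcoef, hχ0⟩ :=
      LinearMap.exists_monic_and_natDegree_eq_and_coeff_mem_pow_and_aeval_eq_zero B _ P hrange
    have hann : χ.eval σ ∈ Module.annihilator B J := Module.mem_annihilator.mpr fun x => by
      have h1 : Polynomial.aeval (algebraMap B (Module.End B J) σ) χ = 0 := by
        rw [show algebraMap B (Module.End B J) σ = σ • (LinearMap.id : J →ₗ[B] J) from Algebra.algebraMap_eq_smul_one σ]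
        exact hχ0
      rw [Polynomial.aeval_algebraMap_apply_eq_algebraMap_eval] at h1
      exact LinearMap.congr_fun h1 x
    have h2 := hle hann
    rw [Polynomial.eval_eq_sum_range, Finset.sum_range_succ, hχ.coeff_natDegree, _root_.one_mul] at h2
    refine hσ (‹P.IsPrime›.mem_of_pow_mem χ.natDegree ?_)
    refine (Submodule.add_mem_iff_right P (P.sum_mem fun i hi => P.mul_mem_right _ ?_)).mp h2
    exact Ideal.pow_le_self (Nat.sub_ne_zero_of_lt (Finset.mem_range.mp hi)) (hcoef i)
  · obtain ⟨φ, hφ₁, hφ₂⟩ := exists_point y g hg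
    rw [← hφ₂]
    refine AlgHom.ext fun a => ?_
    have h1 : c • (pj (gen a)) = 0 := congrArg Subtype.val (Module.mem_annihilator.mp hc ⟨_, hpj _⟩)
    have h2 := congrArg φ ((Algebra.smul_def c (gen a - algebraMap B L₀ (r₀ (gen a)))).symm.trans h1)
    rw [map_zero, map_mul] at h2
    have hφc : φ (algebraMap B L₀ c) = y c := DFunLike.congr_fun hφ₁ c
    rw [hφc, hu.mul_right_eq_zero] at h2
    rw [map_sub, sub_eq_zero, unitSec_gen] at h2
    show φ (gen a) = _
    rw [h2]
    exact φ.commutes _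

end Groth.Agent.MiscTwoH99.FinOrbit
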